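import Mathlib
import Groth.Prelude.Def_Exal2
import Groth.Prelude.Def_TopMod

set_option autoImplicit false

namespace Groth.Agent.Exal14

universe u v w

open Topology

theorem t5829 {A : Type u} {B : Type v} {L : Type w} [CommRing A] [CommRing B]
    [Algebra A B] [AddCommGroup L] [Module A L] [Module B L] [IsScalarTower A B L] [TopologicalSpace B]
    [IsTopologicalRing B] [TopologicalSpace L] [DiscreteTopology L] [ContinuousAdd L] [ContinuousConstSMul B L]
    (hsq : ∀ I : Ideal B, IsOpen (I : Set B) → IsOpen ((I ^ 2 : Ideal B) : Set B))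
    (K : Ideal B) (hK : IsOpen (K : Set B)) (hKL : ∀ x ∈ K, ∀ z : L, x • z = 0) :
    TopMod.DerCont A B L = ⊤ := by
  refine eq_top_iff.2 fun D _ => ?_
  have hD0 : ∀ x ∈ K ^ 2, D x = 0 := by
    intro x hx
    rw [pow_two] at hx
    refine Submodule.mul_induction_on hx (fun a ha b hb => ?_) (fun a b ha hb => by rw [map_add, ha, hb, add_zero])
    rw [Derivation.leibniz, hKL a ha, hKL b hb, add_zero]
  change Continuous fun x => D x
  refine IsLocallyConstant.continuous (IsLocallyConstant.iff_eventually_eq _ |>.2 fun x => ?_)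
  have h1 : (fun y => y - x) ⁻¹' ((K ^ 2 : Ideal B) : Set B) ∈ 𝓝 x :=
    (continuous_id.sub continuous_const).continuousAt.preimage_mem_nhds
      (by simpa using (hsq K hK).mem_nhds (K ^ 2).zero_mem)
  filter_upwards [h1] with y hy
  have := hD0 _ hy
  rwa [map_sub, sub_eq_zero] at this

theorem t5828 {A : Type u} {C L : Type v} [CommRing A] [CommRing C] [Algebra A C]
    [AddCommGroup L] [Module C L] [Module A L] [IsScalarTower A C L] (X : Exal.Ext A C L) :
    (∀ D : Derivation A C L, ∃ e : X.Equiv X, ∀ x : X.E, e.toAlgEquiv x = x + X.incl (D (X.proj x))) ∧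
      ∀ e : X.Equiv X, ∃! D : Derivation A C L, ∀ x : X.E, e.toAlgEquiv x = x + X.incl (D (X.proj x)) := by
  have hH := X.isExtension
  have hp : ∀ z, X.proj (X.incl z) = 0 := fun z => (hH.exact _).2 ⟨z, rfl⟩
  have hii : ∀ z z', X.incl z * X.incl z' = 0 := fun z z' => by
    rw [hH.mul_incl, hp, zero_smul, map_zero]
  have hsm : ∀ (a : A) z, algebraMap A X.E a * X.incl z = X.incl (a • z) := fun a z => by
    rw [hH.mul_incl, X.proj.commutes, algebraMap_smul]
  refine ⟨fun D => ?_, fun e => ?_⟩
  · have mkHom : ∀ D : Derivation A C L, ∃ f : X.E →ₐ[A] X.E,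
        ∀ x, f x = x + X.incl (D (X.proj x)) := fun D =>
      ⟨{ toFun := fun x => x + X.incl (D (X.proj x))
         map_one' := by simp
         map_zero' := by simp
         map_add' := fun x y => by simp [map_add]; abel
         map_mul' := fun x y => by
           rw [map_mul, Derivation.leibniz, map_add, ← hH.mul_incl, ← hH.mul_incl, add_mul, mul_add,
             mul_add, hii]
           ring
         commutes' := fun a => by simp }, fun x => rfl⟩
    obtain ⟨f, hf⟩ := mkHom D
    obtain ⟨g, hg⟩ := mkHom (-D)
    have hfg : ∀ x, f (g x) = x := fun x => by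
      rw [hf, hg]; simp [hp]
    have hgf : ∀ x, g (f x) = x := fun x => by
      rw [hg, hf]; simp [hp]
    exact ⟨⟨AlgEquiv.ofAlgHom f g (AlgHom.ext hfg) (AlgHom.ext hgf),
      fun x => by change X.proj (f x) = _; simp [hf, hp],
      fun z => by change f _ = _; simp [hf, hp]⟩, hf⟩
  · have key : ∀ x, ∃ z, X.incl z = e.toAlgEquiv x - x := fun x =>
      (hH.exact _).1 (by rw [map_sub, e.proj_apply, sub_self])
    choose d hd using key
    have hdc : ∀ x y, X.proj x = X.proj y → d x = d y := by
      intro x y hxy
      obtain ⟨z, hz⟩ := (hH.exact (x - y)).1 (by rw [map_sub, hxy, sub_self])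
      apply hH.incl_injective
      rw [hd, hd]
      have : e.toAlgEquiv (x - y) = x - y := by rw [← hz, e.apply_incl]
      rw [map_sub] at this
      linear_combination this
    choose s hs using hH.proj_surjective
    have hD : ∀ x, d x = d (s (X.proj x)) := fun x => hdc _ _ (hs _).symm
    let D : Derivation A C L :=
      Derivation.mk'
        { toFun := fun c => d (s c)
          map_add' := fun a b => by
            rw [hdc (s (a + b)) (s a + s b) (by simp [hs])]
            apply hH.incl_injective
            rw [map_add, hd, hd, hd, map_add]; abel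
          map_smul' := fun a b => by
            rw [hdc (s (a • b)) (a • s b) (by simp [hs])]
            apply hH.incl_injective
            rw [RingHom.id_apply, ← hsm, hd, hd, map_smul, Algebra.smul_def, Algebra.smul_def]
            ring }
        (fun a b => by
          change d (s (a * b)) = a • d (s b) + b • d (s a)
          rw [hdc (s (a * b)) (s a * s b) (by simp [hs])]
          apply hH.incl_injective
          conv_rhs => rw [map_add, ← hs a, ← hs b, ← hH.mul_incl, ← hH.mul_incl, hd, hd, hs, hs]
          rw [hd, map_mul]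
          have := hii (d (s a)) (d (s b))
          rw [hd, hd] at this
          linear_combination this)
    refine ⟨D, fun x => ?_, fun D' hD' => Derivation.ext fun c => ?_⟩
    · change _ = x + X.incl (d (s (X.proj x)))
      rw [← hD, hd]; ring
    · apply hH.incl_injective
      change _ = X.incl (d (s c))
      rw [hd, hD', hs]; ring

namespace CocycleExt

variable {A : Type u} {B : Type v} [CommRing A] [CommRing B] [Algebra A B] {L : Type v} [AddCommGroup L]
  [Module B L] [Module A L] [IsScalarTower A B L]

/-- Ring defined by a symmetric cocycle. -/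
def Carrier (_f : B →ₗ[A] B →ₗ[A] L) : Type v := B × L

instance (f : B →ₗ[A] B →ₗ[A] L) : AddCommGroup (Carrier f) := inferInstanceAs (AddCommGroup (B × L))

end CocycleExt

open CocycleExt in
theorem t5830 {A : Type u} {B : Type v} [CommRing A] [CommRing B]
    [Algebra A B] [Algebra.FormallySmooth A B] {L : Type v} [AddCommGroup L] [Module B L] [Module A L]
    [IsScalarTower A B L] (f : B →ₗ[A] B →ₗ[A] L) (hsymm : ∀ x y : B, f x y = f y x)
    (hcoc : ∀ x y z : B, f (x * y) z + z • f x y = x • f y z + f x (y * z)) :
    ∃ g : B →ₗ[A] L, ∀ x y : B, f x y = x • g y - g (x * y) + y • g x := by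
  have h1 : ∀ z, f 1 z = z • f 1 1 := fun z => by
    have := hcoc 1 1 z
    simp only [one_mul, one_smul] at this
    exact (add_left_cancel this).symm
  letI mul : Mul (Carrier f) := ⟨fun x y => (x.1 * y.1, x.1 • y.2 + y.1 • x.2 + f x.1 y.1)⟩
  letI one : One (Carrier f) := ⟨(1, - f 1 1)⟩
  have ext' : ∀ x y : Carrier f, x.1 = y.1 → x.2 = y.2 → x = y := fun x y a b => Prod.ext a b
  letI cr : CommRing (Carrier f) :=
    { (inferInstance : AddCommGroup (Carrier f)), mul, one with
      mul_assoc := fun a b c => ext' _ _ (mul_assoc _ _ _) (by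
        change (a.1 * b.1) • c.2 + c.1 • (a.1 • b.2 + b.1 • a.2 + f a.1 b.1) + f (a.1 * b.1) c.1 =
          a.1 • (b.1 • c.2 + c.1 • b.2 + f b.1 c.1) + (b.1 * c.1) • a.2 + f a.1 (b.1 * c.1)
        have := hcoc a.1 b.1 c.1
        simp only [smul_add, smul_smul, mul_comm c.1]
        linear_combination (norm := module) this)
      one_mul := fun a => ext' _ _ (one_mul _) (by
        change (1 : B) • a.2 + a.1 • (- f 1 1) + f 1 a.1 = a.2
        rw [h1 a.1]; simp)
      mul_one := fun a => ext' _ _ (mul_one _) (by
        change a.1 • (- f 1 1) + (1 : B) • a.2 + f a.1 1 = a.2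
        rw [hsymm a.1 1, h1 a.1]; simp)
      mul_comm := fun a b => ext' _ _ (mul_comm _ _) (by
        change a.1 • b.2 + b.1 • a.2 + f a.1 b.1 = b.1 • a.2 + a.1 • b.2 + f b.1 a.1
        rw [hsymm]; abel)
      left_distrib := fun a b c => ext' _ _ (mul_add _ _ _) (by
        change a.1 • (b.2 + c.2) + (b.1 + c.1) • a.2 + f a.1 (b.1 + c.1) =
          (a.1 • b.2 + b.1 • a.2 + f a.1 b.1) + (a.1 • c.2 + c.1 • a.2 + f a.1 c.1)
        rw [map_add, smul_add, add_smul]; abel)
      right_distrib := fun a b c => ext' _ _ (add_mul _ _ _) (by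
        change (a.1 + b.1) • c.2 + c.1 • (a.2 + b.2) + f (a.1 + b.1) c.1 =
          (a.1 • c.2 + c.1 • a.2 + f a.1 c.1) + (b.1 • c.2 + c.1 • b.2 + f b.1 c.1)
        rw [map_add, LinearMap.add_apply, smul_add, add_smul]; abel)
      zero_mul := fun a => ext' _ _ (zero_mul _) (by
        change (0 : B) • a.2 + a.1 • (0 : L) + f 0 a.1 = 0
        simp)
      mul_zero := fun a => ext' _ _ (mul_zero _) (by
        change a.1 • (0 : L) + (0 : B) • a.2 + f a.1 0 = 0
        simp) }
  letI alg : Algebra A (Carrier f) := RingHom.toAlgebra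
    { toFun := fun a => ((algebraMap A B a, - (a • f 1 1)) : B × L)
      map_one' := ext' _ _ (map_one _) (by change -((1 : A) • f 1 1) = - f 1 1; rw [one_smul])
      map_zero' := ext' _ _ (map_zero _) (by change -((0 : A) • f 1 1) = 0; simp)
      map_add' := fun a b => ext' _ _ (map_add _ _ _) (by
        change -((a + b) • f 1 1) = -(a • f 1 1) + -(b • f 1 1)
        rw [add_smul, neg_add])
      map_mul' := fun a b => ext' _ _ (map_mul _ _ _) (by
        change -((a * b) • f 1 1) = algebraMap A B a • -(b • f 1 1) + algebraMap A B b • -(a • f 1 1)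
          + f (algebraMap A B a) (algebraMap A B b)
        rw [Algebra.algebraMap_eq_smul_one, Algebra.algebraMap_eq_smul_one, map_smul, map_smul,
          LinearMap.smul_apply, smul_assoc, smul_assoc, one_smul, one_smul]
        module) }
  let p : Carrier f →ₐ[A] B :=
    { toFun := fun x => x.1
      map_one' := rfl
      map_mul' := fun _ _ => rfl
      map_zero' := rfl
      map_add' := fun _ _ => rfl
      commutes' := fun _ => rfl }
  have hp : Function.Surjective p := fun b => ⟨((b, 0) : B × L), rfl⟩
  have hnil : IsNilpotent (RingHom.ker (p : Carrier f →+* B)) := by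
    refine ⟨2, ?_⟩
    rw [pow_two]
    refine (eq_bot_iff.2 (Ideal.mul_le.2 fun a ha b hb => ?_))
    rw [RingHom.mem_ker] at ha hb
    change a.1 = 0 at ha
    change b.1 = 0 at hb
    refine ext' (a * b) 0 ?_ ?_
    · change a.1 * b.1 = 0
      rw [ha, zero_mul]
    · change a.1 • b.2 + b.1 • a.2 + f a.1 b.1 = 0
      simp [ha, hb]
  let s := Algebra.FormallySmooth.liftOfSurjective (AlgHom.id A B) p hp hnil
  have hs : ∀ b, (s b).1 = b := fun b => Algebra.FormallySmooth.liftOfSurjective_apply (AlgHom.id A B) p hp hnil b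
  let g : B →ₗ[A] L :=
    { toFun := fun b => -(s b).2
      map_add' := fun a b => by
        rw [map_add]; exact neg_add _ _
      map_smul' := fun a b => by
        rw [RingHom.id_apply, map_smul, Algebra.smul_def]
        change -(algebraMap A B a • (s b).2 + (s b).1 • -(a • f 1 1) + f (algebraMap A B a) (s b).1) = a • -(s b).2
        rw [hs, Algebra.algebraMap_eq_smul_one, map_smul, LinearMap.smul_apply, h1 b, smul_assoc, one_smul,
          smul_neg b, smul_comm b a (f 1 1)]
        module }
  refine ⟨g, fun x y => ?_⟩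
  have hm : (s (x * y)).2 = (s x).1 • (s y).2 + (s y).1 • (s x).2 + f (s x).1 (s y).1 :=
    congrArg Prod.snd (map_mul s x y)
  rw [hs, hs] at hm
  change f x y = x • -(s y).2 - -(s (x * y)).2 + y • -(s x).2
  rw [hm]; module

theorem t5831 {A B : Type u} [CommRing A]
    [CommRing B] [Algebra A B] [Module.Projective A B]
    (h : ∀ (L : Type u) [AddCommGroup L] [Module B L] [Module A L] [IsScalarTower A B L]
      (f : B →ₗ[A] B →ₗ[A] L), (∀ x y : B, f x y = f y x) →
        (∀ x y z : B, f (x * y) z + z • f x y = x • f y z + f x (y * z)) →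
          ∃ g : B →ₗ[A] L, ∀ x y : B, f x y = x • g y - g (x * y) + y • g x) :
    Algebra.FormallySmooth A B := by
  refine Algebra.FormallySmooth.of_comp_surjective fun R _ _ I hI φ => ?_
  let q := (Ideal.Quotient.mkₐ A I).toLinearMap
  obtain ⟨s, hs⟩ := Module.projective_lifting_property q φ.toLinearMap
    (by exact Ideal.Quotient.mk_surjective)
  replace hs : ∀ b, Ideal.Quotient.mk I (s b) = φ b := fun b => LinearMap.congr_fun hs b
  have hI0 : ∀ {a b : R}, a ∈ I → b ∈ I → a * b = 0 := fun {a b} ha hb => by
    have := Ideal.mul_mem_mul ha hb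
    rwa [← pow_two, hI, Ideal.mem_bot] at this
  have hconj : ∀ {r r' : R}, Ideal.Quotient.mk I r = Ideal.Quotient.mk I r' → ∀ {z : R}, z ∈ I → r * z = r' * z := by
    intro r r' hr z hz
    rw [Ideal.Quotient.eq] at hr
    have := hI0 hr hz
    rw [sub_mul, sub_eq_zero] at this
    exact this
  letI : Module B I :=
    { smul := fun b z => ⟨s b * z, I.mul_mem_left _ z.2⟩
      one_smul := fun z => Subtype.ext (by
        change s 1 * z = (z : R)
        rw [hconj (r' := 1) (by rw [hs, map_one, map_one]) z.2, one_mul])
      mul_smul := fun a b z => Subtype.ext (by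
        change s (a * b) * z = s a * (s b * z)
        rw [hconj (r' := s a * s b) (by rw [hs, map_mul φ, map_mul, hs, hs]) z.2, mul_assoc])
      smul_zero := fun a => Subtype.ext (by change s a * 0 = (0 : R); simp)
      smul_add := fun a x y => Subtype.ext (by
        change s a * (x + y : R) = s a * x + s a * y
        rw [mul_add])
      add_smul := fun a b z => Subtype.ext (by
        change s (a + b) * z = s a * z + s b * (z : R)
        rw [map_add, add_mul])
      zero_smul := fun z => Subtype.ext (by change s 0 * z = (0 : R); simp) }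
  have : IsScalarTower A B I := ⟨fun a b z => Subtype.ext (by
    change s (a • b) * z = a • (s b * (z : R))
    rw [map_smul, smul_mul_assoc])⟩
  let f : B →ₗ[A] B →ₗ[A] I := LinearMap.mk₂ A
    (fun x y => ⟨s x * s y - s (x * y), Ideal.Quotient.eq.1 (by rw [map_mul, hs, hs, hs, map_mul])⟩)
    (fun a b c => Subtype.ext (by
      change s (a + b) * s c - s ((a + b) * c) = (s a * s c - s (a * c)) + (s b * s c - s (b * c))
      rw [map_add, add_mul a b c, map_add]; ring))
    (fun a b c => Subtype.ext (by
      change s (a • b) * s c - s (a • b * c) = a • (s b * s c - s (b * c))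
      rw [map_smul, smul_mul_assoc, smul_mul_assoc, map_smul, smul_sub]))
    (fun a b c => Subtype.ext (by
      change s a * s (b + c) - s (a * (b + c)) = (s a * s b - s (a * b)) + (s a * s c - s (a * c))
      rw [map_add, mul_add a b c, map_add]; ring))
    (fun a b c => Subtype.ext (by
      change s b * s (a • c) - s (b * (a • c)) = a • (s b * s c - s (b * c))
      rw [map_smul, mul_smul_comm, mul_smul_comm, map_smul, smul_sub]))
  obtain ⟨g, hg⟩ := h I f (fun x y => Subtype.ext (by
      change s x * s y - s (x * y) = s y * s x - s (y * x)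
      rw [mul_comm x y]; ring))
    (fun x y z => Subtype.ext (by
      change (s (x * y) * s z - s (x * y * z)) + s z * (s x * s y - s (x * y)) =
        s x * (s y * s z - s (y * z)) + (s x * s (y * z) - s (x * (y * z)))
      rw [mul_assoc x y z]; ring))
  let t : B →ₗ[A] R := s - (I.subtype.restrictScalars A) ∘ₗ g
  have htd : ∀ x, t x = s x - g x := fun _ => rfl
  have hmk : ∀ x, Ideal.Quotient.mk I (t x) = φ x := fun x => by
    rw [htd, map_sub, hs, Ideal.Quotient.eq_zero_iff_mem.2 (g x).2, sub_zero]
  have hmul : ∀ x y, t (x * y) = t x * t y := by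
    intro x y
    have h1 : s x * s y - s (x * y) = s x * g y - g (x * y) + s y * (g x : R) :=
      congrArg Subtype.val (hg x y)
    have h2 := hI0 (g x).2 (g y).2
    simp only [htd]
    linear_combination -h1 - h2
  have hone : t 1 = 1 := by
    have h1 : t 1 = t 1 * t 1 := by rw [← hmul, one_mul]
    have h2 : t 1 - 1 ∈ I := Ideal.Quotient.eq.1 (by rw [hmk, map_one, map_one])
    have h3 := hI0 h2 h2
    linear_combination -h3 - h1
  exact ⟨AlgHom.ofLinearMap t hone hmul, AlgHom.ext hmk⟩

attribute [local instance] Exal.opModule Exal.isCentralScalar_opModule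

namespace DerExt

/-- Trivial extension with a twisted structure map. -/
def Carrier {Λ : Type u} {A : Type w} {L : Type v} [CommRing Λ] [CommRing A] [Algebra Λ A] [AddCommGroup L]
    [Module A L] [Module Λ L] (C : Type v) (_D : Derivation Λ A L) : Type v := TrivSqZeroExt C L

end DerExt

theorem t5832 {Λ : Type u} {A : Type w} {B C L : Type v}
    [CommRing Λ] [CommRing A] [CommRing B] [CommRing C] [Algebra Λ A] [Algebra Λ B] [Algebra Λ C]
    [Algebra A B] [Algebra B C] [Algebra A C] [IsScalarTower Λ A B] [IsScalarTower Λ A C] [IsScalarTower A B C]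
    [AddCommGroup L] [Module C L] [Module B L] [IsScalarTower B C L]
    (Y : Exal.Ext A B L) (hY : Y.IsTrivialOver Λ) :
    ∃ X : Exal.Ext A C L, X.IsTrivialOver Λ ∧ Nonempty ((X.pullback B).Equiv Y) := by
  obtain ⟨s, hs⟩ := hY
  let s' : B →+* Y.E := s.toRingHom
  have hs' : ∀ b, Y.proj (s' b) = b := hs
  have hsΛ : ∀ l : Λ, s' (algebraMap Λ B l) = algebraMap A Y.E (algebraMap Λ A l) := fun l => s.commutes l
  have hH := Y.isExtension
  have hp : ∀ z, Y.proj (Y.incl z) = 0 := fun z => (hH.exact _).2 ⟨z, rfl⟩
  letI : Module A L := Module.compHom L (algebraMap A B)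
  letI : Module Λ L := Module.compHom L (algebraMap Λ B)
  have : IsScalarTower A B L := ⟨fun a b z => by
    change (a • b) • z = algebraMap A B a • b • z
    rw [Algebra.smul_def, mul_smul]⟩
  have : IsScalarTower A C L := ⟨fun a c z => by
    change (a • c) • z = algebraMap A B a • c • z
    rw [Algebra.smul_def, mul_smul, IsScalarTower.algebraMap_apply A B C, algebraMap_smul]⟩
  have : IsScalarTower Λ A L := ⟨fun l a z => by
    change algebraMap A B (l • a) • z = algebraMap Λ B l • algebraMap A B a • z
    rw [Algebra.smul_def, map_mul, mul_smul, ← IsScalarTower.algebraMap_apply]⟩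
  let d : A → L := fun a => Y.kerLift (algebraMap A Y.E a - s' (algebraMap A B a))
    (by rw [map_sub, Y.proj.commutes, hs', sub_self])
  have hd : ∀ a, Y.incl (d a) = algebraMap A Y.E a - s' (algebraMap A B a) := fun a => Y.incl_kerLift _ _
  have hsm : ∀ (a : A) z, algebraMap A B a • z = a • (z : L) := fun a z => rfl
  let D : Derivation Λ A L := Derivation.mk'
    { toFun := d
      map_add' := fun a b => hH.incl_injective (by simp [hd, map_add]; abel)
      map_smul' := fun l a => hH.incl_injective (by
        rw [RingHom.id_apply]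
        change _ = Y.incl (algebraMap Λ B l • d a)
        conv_rhs => rw [← hs' (algebraMap Λ B l), ← hH.mul_incl, hd, hsΛ]
        rw [hd, Algebra.smul_def, map_mul, map_mul (algebraMap A B), map_mul s',
          ← IsScalarTower.algebraMap_apply Λ A B, hsΛ]
        ring) }
    (fun a b => hH.incl_injective (by
      change Y.incl (d (a * b)) = Y.incl (algebraMap A B a • d b + algebraMap A B b • d a)
      have hzero : Y.incl (d a) * Y.incl (d b) = 0 := by rw [hH.mul_incl, hp, zero_smul, map_zero]
      rw [hd, hd] at hzero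
      rw [map_add]
      conv_rhs => rw [← hs' (algebraMap A B a), ← hs' (algebraMap A B b), ← hH.mul_incl, ← hH.mul_incl, hd, hd]
      rw [hd, map_mul, map_mul (algebraMap A B), map_mul s']
      linear_combination hzero))
  letI : CommRing (DerExt.Carrier C D) := inferInstanceAs (CommRing (TrivSqZeroExt C L))
  letI : Algebra A (DerExt.Carrier C D) := RingHom.toAlgebra
    { toFun := fun a => (TrivSqZeroExt.inl (algebraMap A C a) + TrivSqZeroExt.inr (D a) : TrivSqZeroExt C L)
      map_one' := by
        change (TrivSqZeroExt.inl (algebraMap A C 1) + TrivSqZeroExt.inr (D 1) : TrivSqZeroExt C L) = 1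
        simp
      map_zero' := by
        change (TrivSqZeroExt.inl (algebraMap A C 0) + TrivSqZeroExt.inr (D 0) : TrivSqZeroExt C L) = 0
        simp
      map_add' := fun a b => by
        change (TrivSqZeroExt.inl (algebraMap A C (a + b)) + TrivSqZeroExt.inr (D (a + b)) : TrivSqZeroExt C L) =
          (TrivSqZeroExt.inl (algebraMap A C a) + TrivSqZeroExt.inr (D a)) + (TrivSqZeroExt.inl (algebraMap A C b) + TrivSqZeroExt.inr (D b))
        rw [map_add, map_add, TrivSqZeroExt.inl_add, TrivSqZeroExt.inr_add]; abel
      map_mul' := fun a b => by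
        change (TrivSqZeroExt.inl (algebraMap A C (a * b)) + TrivSqZeroExt.inr (D (a * b)) : TrivSqZeroExt C L) =
          (TrivSqZeroExt.inl (algebraMap A C a) + TrivSqZeroExt.inr (D a)) * (TrivSqZeroExt.inl (algebraMap A C b) + TrivSqZeroExt.inr (D b))
        let xa : TrivSqZeroExt C L := TrivSqZeroExt.inl (algebraMap A C a) + TrivSqZeroExt.inr (D a)
        let xb : TrivSqZeroExt C L := TrivSqZeroExt.inl (algebraMap A C b) + TrivSqZeroExt.inr (D b)
        refine TrivSqZeroExt.ext ?_ ?_
        · change _ = TrivSqZeroExt.fst xa * TrivSqZeroExt.fst xb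
          simp [xa, xb]
        · change _ = TrivSqZeroExt.fst xa • TrivSqZeroExt.snd xb + MulOpposite.op (TrivSqZeroExt.fst xb) • TrivSqZeroExt.snd xa
          simp [xa, xb, op_smul_eq_smul] }
  let X : Exal.Ext A C L :=
    { E := DerExt.Carrier C D
      proj :=
        { toFun := fun x => TrivSqZeroExt.fst x
          map_one' := TrivSqZeroExt.fst_one
          map_mul' := TrivSqZeroExt.fst_mul
          map_zero' := TrivSqZeroExt.fst_zero
          map_add' := TrivSqZeroExt.fst_add
          commutes' := fun x => by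
            change TrivSqZeroExt.fst (TrivSqZeroExt.inl (algebraMap A C x) + TrivSqZeroExt.inr (D x) : TrivSqZeroExt C L) = _
            simp }
      incl := (TrivSqZeroExt.inrHom C L).toAddMonoidHom
      isExtension :=
        { proj_surjective := fun c => ⟨TrivSqZeroExt.inl c, rfl⟩
          incl_injective := TrivSqZeroExt.inr_injective
          exact := fun x => ⟨fun hx => ⟨TrivSqZeroExt.snd x, TrivSqZeroExt.ext hx.symm rfl⟩, by rintro ⟨z, rfl⟩; rfl⟩
          mul_incl := fun x z => by
            refine TrivSqZeroExt.ext ?_ ?_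
            · change TrivSqZeroExt.fst x * 0 = 0
              exact mul_zero _
            · change TrivSqZeroExt.fst x • z + MulOpposite.op (0 : C) • TrivSqZeroExt.snd x = TrivSqZeroExt.fst x • z
              rw [MulOpposite.op_zero, zero_smul, add_zero] } }
  refine ⟨X, ?_, ?_⟩
  · let σ : C →+* TrivSqZeroExt C L := TrivSqZeroExt.inlHom C L
    refine ⟨{ σ with commutes' := fun l => ?_ }, fun c => ?_⟩
    · change TrivSqZeroExt.inl (algebraMap Λ C l) =
        TrivSqZeroExt.inl (algebraMap A C (algebraMap Λ A l)) + TrivSqZeroExt.inr (D (algebraMap Λ A l))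
      rw [Derivation.map_algebraMap, TrivSqZeroExt.inr_zero, add_zero, ← IsScalarTower.algebraMap_apply]
    · rfl
  · let F := X.fiberProd B
    have hmem : ∀ e : F, TrivSqZeroExt.fst (e.1.1 : TrivSqZeroExt C L) = algebraMap B C e.1.2 := fun e => e.2
    let toY : F → Y.E := fun e => s' e.1.2 + Y.incl (TrivSqZeroExt.snd (e.1.1 : TrivSqZeroExt C L))
    have hsmul : ∀ (e : F) (z : L), algebraMap B C e.1.2 • z = e.1.2 • z := fun e z => algebraMap_smul C _ z
    let Φ : F →ₐ[A] Y.E :=
      { toFun := toY
        map_one' := by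
          change s' 1 + Y.incl (TrivSqZeroExt.snd (1 : TrivSqZeroExt C L)) = 1
          simp
        map_zero' := by
          change s' 0 + Y.incl (TrivSqZeroExt.snd (0 : TrivSqZeroExt C L)) = 0
          simp
        map_add' := fun a b => by
          change s' (a.1.2 + b.1.2) + Y.incl (TrivSqZeroExt.snd (a.1.1 : TrivSqZeroExt C L) + TrivSqZeroExt.snd (b.1.1 : TrivSqZeroExt C L)) = toY a + toY b
          rw [map_add, map_add]; simp only [toY]; abel
        map_mul' := fun a b => by
          change s' (a.1.2 * b.1.2) + Y.incl (TrivSqZeroExt.fst (a.1.1 : TrivSqZeroExt C L) • TrivSqZeroExt.snd (b.1.1 : TrivSqZeroExt C L)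
            + MulOpposite.op (TrivSqZeroExt.fst (b.1.1 : TrivSqZeroExt C L)) • TrivSqZeroExt.snd (a.1.1 : TrivSqZeroExt C L)) = toY a * toY b
          have hzero : Y.incl (TrivSqZeroExt.snd (a.1.1 : TrivSqZeroExt C L)) * Y.incl (TrivSqZeroExt.snd (b.1.1 : TrivSqZeroExt C L)) = 0 := by
            rw [hH.mul_incl, hp, zero_smul, map_zero]
          rw [op_smul_eq_smul, hmem, hmem, hsmul, hsmul, map_add]
          conv_lhs => rw [← hs' a.1.2, ← hs' b.1.2, ← hH.mul_incl, ← hH.mul_incl, hs', hs', map_mul]
          simp only [toY]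
          linear_combination -hzero
        commutes' := fun a => by
          change s' (algebraMap A B a) + Y.incl (TrivSqZeroExt.snd
            (TrivSqZeroExt.inl (algebraMap A C a) + TrivSqZeroExt.inr (D a) : TrivSqZeroExt C L)) = _
          have : D a = d a := rfl
          simp [this, hd] }
    have hproj : ∀ e : F, Y.proj (Φ e) = e.1.2 := fun e => by
      change Y.proj (s' e.1.2 + Y.incl _) = _
      rw [map_add, hs', hp, add_zero]
    have hbij : Function.Bijective Φ := by
      refine ⟨fun a b hab => ?_, fun y => ?_⟩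
      · have h2 : a.1.2 = b.1.2 := by rw [← hproj a, hab, hproj b]
        have h3 : Y.incl (TrivSqZeroExt.snd (a.1.1 : TrivSqZeroExt C L)) =
            Y.incl (TrivSqZeroExt.snd (b.1.1 : TrivSqZeroExt C L)) := by
          change s' a.1.2 + _ = s' b.1.2 + _ at hab
          rw [h2] at hab; exact add_left_cancel hab
        exact Subtype.ext (Prod.ext (TrivSqZeroExt.ext (by rw [hmem, hmem, h2]) (hH.incl_injective h3)) h2)
      · obtain ⟨z, hz⟩ := (hH.exact (y - s' (Y.proj y))).1 (by rw [map_sub, hs', sub_self])
        refine ⟨⟨((TrivSqZeroExt.inl (algebraMap B C (Y.proj y)) + TrivSqZeroExt.inr z : TrivSqZeroExt C L), Y.proj y), ?_⟩, ?_⟩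
        · change TrivSqZeroExt.fst (TrivSqZeroExt.inl (algebraMap B C (Y.proj y)) + TrivSqZeroExt.inr z : TrivSqZeroExt C L) = _
          simp
        · change s' (Y.proj y) + Y.incl (TrivSqZeroExt.snd (TrivSqZeroExt.inl (algebraMap B C (Y.proj y)) + TrivSqZeroExt.inr z : TrivSqZeroExt C L)) = y
          simp [hz]
    exact ⟨⟨AlgEquiv.ofBijective Φ hbij, hproj, fun z => by
      change s' 0 + Y.incl (TrivSqZeroExt.snd (TrivSqZeroExt.inr z : TrivSqZeroExt C L)) = _
      simp⟩⟩

end Groth.Agent.Exal14
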