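import Mathlib
import Groth.Agent.EGA4Alg4.CharHom

/-! The characteristic homomorphism of the infinitesimal extension seen over `A` (rows S5833, S5834). -/

set_option autoImplicit false

universe u v

open TensorProduct

namespace Groth.Agent.Exal14

attribute [local instance] Exal.opModule Exal.isCentralScalar_opModule

open Exal Groth.Agent.EGA4Alg4.Exal13

variable {Λ : Type u} {A B : Type v} [CommRing Λ] [CommRing A] [CommRing B] [Algebra Λ A] [Algebra Λ B]
  [Algebra A B] [IsScalarTower Λ A B] (K : Ideal B)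

variable (Λ A) in
/-- `C ⊗_A Ω_{A/Λ} → C ⊗_B Ω_{B/Λ}`. -/
noncomputable abbrev midMap : (B ⧸ K) ⊗[A] Ω[A⁄Λ] →ₗ[B ⧸ K] (B ⧸ K) ⊗[B] Ω[B⁄Λ] :=
  ((KaehlerDifferential.mapBaseChange Λ A B).baseChange (B ⧸ K)).comp
    (TensorProduct.AlgebraTensorModule.cancelBaseChange A B (B ⧸ K) (B ⧸ K) Ω[A⁄Λ]).symm.toLinearMap

theorem midMap_tmul (c : B ⧸ K) (ω : Ω[A⁄Λ]) :
    midMap Λ A K (c ⊗ₜ[A] ω) = c ⊗ₜ[B] KaehlerDifferential.map Λ Λ A B ω := by
  simp [midMap]

theorem mapBaseChange_midMap (z : (B ⧸ K) ⊗[A] Ω[A⁄Λ]) :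
    KaehlerDifferential.mapBaseChange Λ B (B ⧸ K) (midMap Λ A K z) =
      KaehlerDifferential.mapBaseChange Λ A (B ⧸ K) z := by
  induction z with
  | zero => simp
  | add x y hx hy => rw [map_add, map_add, map_add, hx, hy]
  | tmul c ω =>
    rw [midMap_tmul, KaehlerDifferential.mapBaseChange_tmul, KaehlerDifferential.mapBaseChange_tmul]
    congr 1
    induction (KaehlerDifferential.span_range_derivation Λ A).ge (Submodule.mem_top (x := ω)) using
      Submodule.span_induction with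
    | mem x hx =>
      obtain ⟨a, rfl⟩ := hx
      rw [KaehlerDifferential.map_D, KaehlerDifferential.map_D, KaehlerDifferential.map_D,
        ← IsScalarTower.algebraMap_apply]
    | zero => simp
    | add x y _ _ hx hy => simp [hx, hy]
    | smul a x _ hx =>
      rw [LinearMap.map_smul, LinearMap.map_smul (KaehlerDifferential.map Λ Λ A (B ⧸ K)),
        ← IsScalarTower.algebraMap_smul B a (KaehlerDifferential.map Λ Λ A B x),
        LinearMap.map_smul, hx, IsScalarTower.algebraMap_smul]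

/-- `1 ⊗ d x` only depends on the class of `x` in `K/K²`. -/
theorem tmul_D_eq_zero {x : B} (hx : x ∈ K ^ 2) :
    (1 : B ⧸ K) ⊗ₜ[B] KaehlerDifferential.D Λ B x = 0 := by
  have hxK : x ∈ RingHom.ker (algebraMap B (B ⧸ K)) := by
    rw [Ideal.Quotient.algebraMap_eq, Ideal.mk_ker]
    exact Ideal.pow_le_self two_ne_zero hx
  have : (RingHom.ker (algebraMap B (B ⧸ K))).toCotangent ⟨x, hxK⟩ = 0 := by
    rw [Ideal.toCotangent_eq_zero]
    change x ∈ RingHom.ker (algebraMap B (B ⧸ K)) ^ 2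
    rwa [Ideal.Quotient.algebraMap_eq, Ideal.mk_ker]
  rw [← KaehlerDifferential.kerCotangentToTensor_toCotangent Λ B (B ⧸ K) ⟨x, hxK⟩, this, map_zero]

/-- The retraction of `q ↦ 1 ⊗ d q` attached to a section, and the characteristic homomorphism through it. -/
theorem exists_retraction (htriv : ((Exal.Ext.infinitesimal K).restrictBase A).IsTrivialOver Λ)
    (χ : ↥(EGA41.imperfection Λ A (B ⧸ K)) →ₗ[B ⧸ K] K.Cotangent)
    (hχ : ((Exal.Ext.infinitesimal K).restrictBase A).IsCharHom Λ χ) :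
    ∃ ψ : (B ⧸ K) ⊗[B] Ω[B⁄Λ] →ₗ[B ⧸ K] K.Cotangent,
      (∀ (x : B) (hx : x ∈ K), ψ (1 ⊗ₜ[B] KaehlerDifferential.D Λ B x) = K.toCotangent ⟨x, hx⟩) ∧
      ∀ z : ↥(EGA41.imperfection Λ A (B ⧸ K)),
        χ z = ψ (midMap Λ A K (z : (B ⧸ K) ⊗[A] Ω[A⁄Λ])) := by
  have : IsScalarTower Λ B (B ⧸ K) := inferInstance
  have : IsScalarTower Λ (B ⧸ K) K.Cotangent := ⟨fun a c q => by
    obtain ⟨b, rfl⟩ := Ideal.Quotient.mk_surjective c
    change Ideal.Quotient.mk K (a • b) • q = a • Ideal.Quotient.mk K b • q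
    rw [← Ideal.Quotient.algebraMap_eq, algebraMap_smul, algebraMap_smul, smul_assoc]⟩
  have : IsScalarTower A (B ⧸ K) K.Cotangent := ⟨fun a c q => by
    obtain ⟨b, rfl⟩ := Ideal.Quotient.mk_surjective c
    change Ideal.Quotient.mk K (a • b) • q = a • Ideal.Quotient.mk K b • q
    rw [← Ideal.Quotient.algebraMap_eq, algebraMap_smul, algebraMap_smul, smul_assoc]⟩
  have hK : (Exal.Ext.infinitesimal K).IsTrivialOver Λ := by
    obtain ⟨s, hs, hsA⟩ := exists_section htriv
    exact isTrivialOver_mk (X := Exal.Ext.infinitesimal K) s hs fun a => (hsA a).trans (by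
      change algebraMap B (B ⧸ K ^ 2) (algebraMap A B (algebraMap Λ A a)) = _
      rw [← IsScalarTower.algebraMap_apply Λ A B]
      rfl)
  obtain ⟨D, ⟨e⟩⟩ := exists_equiv_ofDerivation (Exal.Ext.infinitesimal K) hK
  have hD : ∀ k : K, D k = K.toCotangent k := by
    intro k
    have h1 : (Exal.Ext.infinitesimal K).incl (K.toCotangent k) =
        algebraMap B (Exal.Ext.infinitesimal K).E (k : B) :=
      Ideal.toCotangent_to_quotient_square K k
    have h2 := congrArg e.toAlgEquiv h1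
    rw [e.apply_incl, e.toAlgEquiv.commutes] at h2
    have h3 := congrArg (fun x : TrivSqZeroExt (B ⧸ K) K.Cotangent => x.snd) h2
    change (TrivSqZeroExt.inr (K.toCotangent k) : TrivSqZeroExt (B ⧸ K) K.Cotangent).snd =
      (TrivSqZeroExt.inl (algebraMap B (B ⧸ K) k) + TrivSqZeroExt.inr (D k) :
        TrivSqZeroExt (B ⧸ K) K.Cotangent).snd at h3
    simpa using h3.symm
  let DA : Derivation Λ A K.Cotangent := D.compAlgebraMap A
  have hDA : ∀ a, DA a = D (algebraMap A B a) := fun a => rfl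
  let f : ((Exal.Ext.infinitesimal K).restrictBase A).E →ₐ[A] (Exal.Ext.ofDerivation (C := B ⧸ K) DA).E :=
    { toFun := fun x => e.toAlgEquiv x
      map_one' := map_one e.toAlgEquiv
      map_zero' := map_zero e.toAlgEquiv
      map_add' := map_add e.toAlgEquiv
      map_mul' := map_mul e.toAlgEquiv
      commutes' := fun a => (e.toAlgEquiv.commutes (algebraMap A B a)).trans (by
        change (TrivSqZeroExt.inl (algebraMap B (B ⧸ K) (algebraMap A B a)) + TrivSqZeroExt.inr (D (algebraMap A B a)) :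
            TrivSqZeroExt (B ⧸ K) K.Cotangent) =
          TrivSqZeroExt.inl (algebraMap A (B ⧸ K) a) + TrivSqZeroExt.inr (DA a)
        rw [← IsScalarTower.algebraMap_apply, hDA]) }
  let e' := equivOfHom (X := (Exal.Ext.infinitesimal K).restrictBase A)
    (Y := Exal.Ext.ofDerivation (C := B ⧸ K) DA) f e.proj_apply e.apply_incl
  have key := (isCharHom_iff e' χ).1 hχ
  have hfac : ∀ w, derLift (B ⧸ K) DA w = derLift (B ⧸ K) D (midMap Λ A K w) := by
    intro w
    induction w with
    | zero => simp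
    | add x y hx hy => rw [map_add, map_add, map_add, hx, hy]
    | tmul c ω =>
      rw [midMap_tmul, derLift_tmul, derLift_tmul]
      congr 1
      induction (KaehlerDifferential.span_range_derivation Λ A).ge (Submodule.mem_top (x := ω)) using
        Submodule.span_induction with
      | mem x hx =>
        obtain ⟨a, rfl⟩ := hx
        rw [KaehlerDifferential.map_D, Derivation.liftKaehlerDifferential_comp_D,
          Derivation.liftKaehlerDifferential_comp_D, hDA]
      | zero => simp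
      | add x y _ _ hx hy => simp [hx, hy]
      | smul a x _ hx =>
        rw [LinearMap.map_smul, LinearMap.map_smul (KaehlerDifferential.map Λ Λ A B),
          ← IsScalarTower.algebraMap_smul B a (KaehlerDifferential.map Λ Λ A B x),
          LinearMap.map_smul D.liftKaehlerDifferential, hx, IsScalarTower.algebraMap_smul]
  exact ⟨derLift (B ⧸ K) D, fun x hx => (derLift_one_D D x).trans (hD ⟨x, hx⟩),
    fun z => (key z).trans (hfac _)⟩

/-- The image of the imperfection module consists of classes `1 ⊗ d x`, `x ∈ K`. -/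
theorem exists_midMap_eq (z : ↥(EGA41.imperfection Λ A (B ⧸ K))) :
    ∃ (x : B) (_ : x ∈ K), midMap Λ A K (z : (B ⧸ K) ⊗[A] Ω[A⁄Λ]) = 1 ⊗ₜ[B] KaehlerDifferential.D Λ B x := by
  have hr : midMap Λ A K (z : (B ⧸ K) ⊗[A] Ω[A⁄Λ]) ∈
      LinearMap.range (KaehlerDifferential.kerCotangentToTensor Λ B (B ⧸ K)) := by
    rw [KaehlerDifferential.range_kerCotangentToTensor Λ B (B ⧸ K) Ideal.Quotient.mk_surjective,
      Submodule.restrictScalars_mem, LinearMap.mem_ker, mapBaseChange_midMap]
    exact z.2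
  obtain ⟨q, hq⟩ := hr
  obtain ⟨⟨x, hx⟩, rfl⟩ := Ideal.toCotangent_surjective _ q
  rw [KaehlerDifferential.kerCotangentToTensor_toCotangent] at hq
  have hxK : x ∈ K := by rwa [RingHom.mem_ker, Ideal.Quotient.algebraMap_eq, Ideal.Quotient.eq_zero_iff_mem] at hx
  exact ⟨x, hxK, hq.symm⟩

theorem charHom_ker_and_range
    (htriv : ((Exal.Ext.infinitesimal K).restrictBase A).IsTrivialOver Λ)
    (χ : ↥(EGA41.imperfection Λ A (B ⧸ K)) →ₗ[B ⧸ K] K.Cotangent)
    (hχ : ((Exal.Ext.infinitesimal K).restrictBase A).IsCharHom Λ χ) :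
    (∀ z : ↥(EGA41.imperfection Λ A (B ⧸ K)),
        χ z = 0 ↔ midMap Λ A K (z : (B ⧸ K) ⊗[A] Ω[A⁄Λ]) = 0) ∧
      ∀ (x : B) (hx : x ∈ K),
        K.toCotangent ⟨x, hx⟩ ∈ LinearMap.range χ ↔
          (1 : B ⧸ K) ⊗ₜ[B] KaehlerDifferential.D A B x = (0 : (B ⧸ K) ⊗[B] Ω[B⁄A]) := by
  obtain ⟨ψ, hψ, key⟩ := exists_retraction K htriv χ hχ
  constructor
  · intro z
    obtain ⟨x, hx, hm⟩ := exists_midMap_eq K z
    constructor
    · intro h
      rw [key, hm, hψ x hx, Ideal.toCotangent_eq_zero] at h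
      rw [hm, tmul_D_eq_zero K h]
    · intro h
      rw [key, h, map_zero]
  · intro x hx
    have hex : Function.Exact (((KaehlerDifferential.mapBaseChange Λ A B).restrictScalars B).lTensor (B ⧸ K))
        ((KaehlerDifferential.map Λ A B B).lTensor (B ⧸ K)) :=
      lTensor_exact (B ⧸ K) (KaehlerDifferential.exact_mapBaseChange_map Λ A B)
        (KaehlerDifferential.map_surjective Λ A B)
    have himg : (KaehlerDifferential.map Λ A B B).lTensor (B ⧸ K) (1 ⊗ₜ[B] KaehlerDifferential.D Λ B x) =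
        1 ⊗ₜ[B] KaehlerDifferential.D A B x := by
      rw [LinearMap.lTensor_tmul, KaehlerDifferential.map_D, Algebra.algebraMap_self_apply]
    constructor
    · rintro ⟨z, hz⟩
      obtain ⟨y, hy, hm⟩ := exists_midMap_eq K z
      have hd : y - x ∈ K ^ 2 := by
        rw [key, hm, hψ y hy, Ideal.toCotangent_eq] at hz
        exact hz
      have h1 : (1 : B ⧸ K) ⊗ₜ[B] KaehlerDifferential.D Λ B x = midMap Λ A K (z : (B ⧸ K) ⊗[A] Ω[A⁄Λ]) := by
        rw [hm, eq_comm, ← sub_eq_zero, ← TensorProduct.tmul_sub, ← map_sub]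
        exact tmul_D_eq_zero K hd
      rw [← himg, h1]
      exact (hex _).2 ⟨(TensorProduct.AlgebraTensorModule.cancelBaseChange A B (B ⧸ K) (B ⧸ K) Ω[A⁄Λ]).symm
        (z : (B ⧸ K) ⊗[A] Ω[A⁄Λ]), rfl⟩
    · intro h
      obtain ⟨w, hw⟩ := (hex _).1 (himg.trans h)
      let z0 : (B ⧸ K) ⊗[A] Ω[A⁄Λ] :=
        TensorProduct.AlgebraTensorModule.cancelBaseChange A B (B ⧸ K) (B ⧸ K) Ω[A⁄Λ] w
      have hm : midMap Λ A K z0 = 1 ⊗ₜ[B] KaehlerDifferential.D Λ B x := by
        rw [← hw]
        simp only [z0, midMap, LinearMap.comp_apply, LinearEquiv.coe_coe, LinearEquiv.symm_apply_apply]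
        rfl
      have hz0 : z0 ∈ EGA41.imperfection Λ A (B ⧸ K) := by
        change KaehlerDifferential.mapBaseChange Λ A (B ⧸ K) z0 = 0
        rw [← mapBaseChange_midMap, hm, KaehlerDifferential.mapBaseChange_tmul, one_smul,
          KaehlerDifferential.map_D, Ideal.Quotient.algebraMap_eq, Ideal.Quotient.eq_zero_iff_mem.2 hx, map_zero]
      exact ⟨⟨z0, hz0⟩, by rw [key, hm, hψ x hx]⟩

theorem charHom_injective [Algebra.FormallySmooth A B]
    (htriv : ((Exal.Ext.infinitesimal K).restrictBase A).IsTrivialOver Λ)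
    (χ : ↥(EGA41.imperfection Λ A (B ⧸ K)) →ₗ[B ⧸ K] K.Cotangent)
    (hχ : ((Exal.Ext.infinitesimal K).restrictBase A).IsCharHom Λ χ) :
    Function.Injective χ := by
  let μ := KaehlerDifferential.mapBaseChange Λ A B
  have hinj : Function.Injective μ := by
    rw [injective_iff_map_eq_zero]
    intro y hy
    obtain ⟨q, rfl⟩ := (Algebra.H1Cotangent.exact_δ_mapBaseChange Λ A B y).1 hy
    rw [Subsingleton.elim q 0, map_zero]
  obtain ⟨s, hs⟩ := Module.projective_lifting_property (KaehlerDifferential.map Λ A B B) LinearMap.id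
    (KaehlerDifferential.map_surjective Λ A B)
  let π : Ω[B⁄Λ] →ₗ[B] Ω[B⁄Λ] := LinearMap.id - s.comp (KaehlerDifferential.map Λ A B B)
  have hπ : ∀ ω, π ω ∈ LinearMap.range μ := fun ω => by
    rw [KaehlerDifferential.range_mapBaseChange, LinearMap.mem_ker]
    have := LinearMap.congr_fun hs (KaehlerDifferential.map Λ A B B ω)
    simp only [LinearMap.comp_apply, LinearMap.id_apply] at this
    simp [π, this]
  let ρ : Ω[B⁄Λ] →ₗ[B] B ⊗[A] Ω[A⁄Λ] :=
    (LinearEquiv.ofInjective μ hinj).symm.toLinearMap.comp (π.codRestrict _ hπ)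
  have hρ : ρ.comp μ = LinearMap.id := by
    refine LinearMap.ext fun y => ?_
    change (LinearEquiv.ofInjective μ hinj).symm _ = y
    rw [LinearEquiv.symm_apply_eq]
    refine Subtype.ext ?_
    change π (μ y) = μ y
    simp [π, μ, (KaehlerDifferential.exact_mapBaseChange_map Λ A B).apply_apply_eq_zero y]
  have hb : Function.Injective (μ.baseChange (B ⧸ K)) := by
    refine Function.LeftInverse.injective (g := ρ.baseChange (B ⧸ K)) fun y => ?_
    rw [← LinearMap.comp_apply, ← LinearMap.baseChange_comp, hρ, LinearMap.baseChange_id, LinearMap.id_apply]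
  rw [injective_iff_map_eq_zero]
  intro z hz
  have h0 := ((charHom_ker_and_range K htriv χ hχ).1 z).1 hz
  refine Subtype.ext ((TensorProduct.AlgebraTensorModule.cancelBaseChange A B (B ⧸ K) (B ⧸ K) Ω[A⁄Λ]).symm.injective ?_)
  rw [Submodule.coe_zero, map_zero]
  apply hb
  rw [map_zero]
  exact h0

end Groth.Agent.Exal14
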